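import Mathlib
import Cfsg.Agent.CHEV.CoxTypes
import Cfsg.Agent.PERM.T42R

/-! A group generated by involutions with the Coxeter relations of type `E₇` and without centre is
`Sp₆(2)`. -/

set_option autoImplicit false

namespace CL.YK

open Matrix Cfsg

namespace E7

/-- the seven vectors -/
def vv (i : Fin 7) : Fin 3 ⊕ Fin 3 → ZMod 2 :=
  Sum.elim (![![1, 0, 0], ![0, 1, 0], ![0, 0, 0], ![1, 0, 0], ![0, 1, 1], ![0, 0, 0], ![0, 0, 1]] i)
    (![![0, 0, 0], ![0, 0, 0], ![1, 0, 0], ![0, 1, 0], ![0, 0, 0], ![0, 0, 1], ![0, 0, 0]] i)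

/-- a transvection -/
def tv (v : Fin 3 ⊕ Fin 3 → ZMod 2) : symplecticGroup (Fin 3) (ZMod 2) :=
  ⟨sympTransvection 3 v 1, CL.Sp.sympTransvection_mem v 1⟩

/-- the seven transvections -/
def tt (i : Fin 7) : symplecticGroup (Fin 3) (ZMod 2) := tv (vv i)

/-- the distance from the seven vectors -/
def rk (v : Fin 3 ⊕ Fin 3 → ZMod 2) : ℕ :=
  [0, 0, 0, 14, 0, 6, 0, 10, 0, 1, 16, 15, 4, 5, 8, 9, 12, 0, 13, 1, 12, 2, 11, 1, 2, 1, 3, 2, 4, 3, 3, 2, 0, 8,
    2, 8, 1, 7, 1, 9, 6, 7, 6, 7, 5, 6, 7, 8, 10, 4, 9, 3, 11, 3, 10, 2, 6, 5, 5, 4, 5, 4, 4, 3].getD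
    ((v (.inl 0)).val + 2 * (v (.inl 1)).val + 4 * (v (.inl 2)).val + 8 * (v (.inr 0)).val +
      16 * (v (.inr 1)).val + 32 * (v (.inr 2)).val) 0

theorem rk_spec : ∀ v, v = 0 ∨ (∃ i, v = vv i) ∨ ∃ i, rk ((tt i).1 *ᵥ v) < rk v := by decide +kernel

theorem sq (i : Fin 7) : tt i * tt i = 1 :=
  Subtype.ext ((by decide +kernel : ∀ i, (tt i).1 * (tt i).1 = 1) i)

theorem conj (A : symplecticGroup (Fin 3) (ZMod 2)) (v : Fin 3 ⊕ Fin 3 → ZMod 2) :
    A * tv v * A⁻¹ = tv (A.1 *ᵥ v) :=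
  mul_inv_eq_of_eq_mul (Subtype.ext (Matrix.ext_iff_mulVec.2 fun x => by
    change (A.1 * sympTransvection 3 v 1) *ᵥ x = (sympTransvection 3 (A.1 *ᵥ v) 1 * A.1) *ᵥ x
    rw [← mulVec_mulVec, ← mulVec_mulVec, CL.Sp.sympTransvection_mulVec, CL.Sp.sympTransvection_mulVec,
      CL.Witt.Form.tv_apply, CL.Witt.Form.tv_apply, CL.Sp.spForm_B, CL.Sp.spForm_B,
      CL.Sp.mem_symplecticGroup_iff.1 A.2, mulVec_add, mulVec_smul]))

/-- the image of a vector -/
def im (i j : Fin 7) : Fin 3 ⊕ Fin 3 → ZMod 2 := (tt i).1 *ᵥ vv j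

theorem tab : ∀ i j : Fin 7, (decide (i = j) && CoxeterMatrix.E₇ i j == 1 ||
    CoxeterMatrix.E₇ i j == 2 && decide (im i j = vv j) ||
    CoxeterMatrix.E₇ i j == 3 && decide (im i j = im j i)) = true := by decide +kernel

theorem lift : CoxeterMatrix.E₇.IsLiftable tt := by
  intro i j
  have h0 := tab i j
  simp only [Bool.or_eq_true, Bool.and_eq_true, decide_eq_true_eq, beq_iff_eq] at h0
  rcases h0 with (⟨rfl, e⟩ | ⟨e, h⟩) | ⟨e, h⟩
  · rw [e, pow_one, sq]
  · have h1 := conj (tt i) (vv j)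
    unfold im at h
    rw [h, inv_eq_of_mul_eq_one_right (sq i)] at h1
    rw [e, pow_two, ← mul_assoc]
    exact (congrArg (· * tt j) h1).trans (sq j)
  · have h1 := conj (tt i) (vv j)
    unfold im at h
    rw [h, ← conj, inv_eq_of_mul_eq_one_right (sq i), inv_eq_of_mul_eq_one_right (sq j)] at h1
    change tt i * tt j * tt i = tt j * tt i * tt j at h1
    calc _ = (tt i * tt j * tt i) * (tt j * tt i * tt j) := by
          rw [e]; simp only [pow_succ, pow_zero, one_mul, mul_assoc]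
      _ = tt j * (tt i * (tt j * tt j) * tt i) * tt j := by rw [h1]; simp only [mul_assoc]
      _ = 1 := by rw [sq, mul_one, sq, mul_one, sq]

theorem top {N : Subgroup (symplecticGroup (Fin 3) (ZMod 2))} (h : ∀ i, tt i ∈ N) : N = ⊤ := by
  have h0 : ∀ v c, c = 0 ∨ v = 0 → (⟨_, CL.Sp.sympTransvection_mem v c⟩ : symplecticGroup (Fin 3) (ZMod 2)) = 1 := by
    rintro v c (rfl | rfl) <;> exact Subtype.ext (by simp [sympTransvection])
  have key : ∀ n v, rk v = n → tv v ∈ N := fun n => by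
    induction n using Nat.strong_induction_on with
    | _ n ih =>
      intro v hv
      rcases rk_spec v with e | ⟨i, rfl⟩ | ⟨i, e⟩
      · rw [tv, h0 v 1 (Or.inr e)]; exact one_mem _
      · exact h i
      · have := ih _ (hv ▸ e) _ rfl
        rw [← conj] at this
        simpa [mul_assoc] using N.mul_mem (N.mul_mem (N.inv_mem (h i)) this) (h i)
  refine CL.Sp.eq_top_of_sympTransvection_mem fun v c => ?_
  rcases (by decide : ∀ c : ZMod 2, c = 0 ∨ c = 1) c with e | rfl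
  · rw [h0 v c (Or.inl e)]; exact one_mem _
  · exact key _ v rfl

end E7


/-- Proof.  `W = CoxeterMatrix.E₇.Group`, `cs = CoxeterMatrix.E₇.toCoxeterSystem`, `|W| = 2903040`
(`CL.Cox.card_E7`, `finite_E7`, CHEV/CoxTypes).  `ψ = cs.lift ⟨s, h⟩ : W →* G` has range
`closure (range s)` (`cs.subgroup_closure_range_simple`).  `π = cs.lift` of the seven transvections
`⟨sympTransvection 3 (v i) 1, CL.Sp.sympTransvection_mem _ 1⟩ : symplecticGroup (Fin 3) (ZMod 2)`,
`v i` = vectors whose symplectic Gram matrix is the `E₇` diagram mod 2 (relations by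
`decide +kernel` on matrices, as `reln` in PERM/T42R).  `π` is onto: every `sympTransvection 3 v 1`
is a word in the seven (table as `twn_eq` in PERM/T42R) and
`CL.Sp.eq_top_of_sympTransvection_mem`.  `|Sp₆(2)| = 1451520`, simple, `≃* PSp 3` (copy the end of
`CL.T42.exists_sp`).  So `ker π` has order 2, it is central in `W`, `ψ` of it commutes with all
`s i`, so `ker π ≤ ker ψ` by `hz`; `ψ` factors through the simple group `Sp₆(2)`, nontrivially by
`h0`, so `Sp₆(2) ≃* ψ.range`. -/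
theorem sp_of_E7 {G : Type*} [Group G] (s : Fin 7 → G) (h : CoxeterMatrix.E₇.IsLiftable s)
    (h0 : s 0 ≠ 1)
    (hz : ∀ z ∈ Subgroup.closure (Set.range s), (∀ i, Commute z (s i)) → z = 1) :
    IsSimpleGroup (Subgroup.closure (Set.range s)) ∧
      Nat.card (Subgroup.closure (Set.range s)) = 1451520 ∧
      Nonempty (Subgroup.closure (Set.range s) ≃* Cfsg.PSp 3 (ZMod 2)) := by
  let cs := CoxeterMatrix.E₇.toCoxeterSystem
  have hW := CL.Cox.finite_E7 cs
  have cW := CL.Cox.card_E7 cs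
  let ψ := cs.lift ⟨s, h⟩
  let π := cs.lift ⟨E7.tt, E7.lift⟩
  have hψ : ∀ i, ψ (cs.simple i) = s i := cs.lift_apply_simple h
  have hπ : ∀ i, π (cs.simple i) = E7.tt i := cs.lift_apply_simple E7.lift
  have hr : ψ.range = Subgroup.closure (Set.range s) := by
    rw [MonoidHom.range_eq_map, ← cs.subgroup_closure_range_simple, MonoidHom.map_closure,
      ← Set.range_comp]
    congr 2
    exact funext hψ
  have hs : Function.Surjective π := MonoidHom.range_eq_top.1 (E7.top fun i => ⟨_, hπ i⟩)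
  obtain ⟨-, -, -, hS, cS⟩ := CL.T42.exists_sp (F := ZMod 2) (ZMod.card 2)
  have hk : Nat.card π.ker = 2 := by
    have := π.ker.card_mul_index
    rw [Subgroup.index_ker, MonoidHom.range_eq_top.2 hs, Subgroup.card_top, cS, cW] at this
    omega
  have hk2 : π.ker ≤ ψ.ker := fun z hz' => by
    refine hz _ (hr ▸ ⟨z, rfl⟩) fun i => ?_
    rw [← hψ]
    refine Commute.map ?_ ψ
    by_cases e : z = 1
    · rw [e]; exact Commute.one_left _
    obtain ⟨y, -, hy⟩ := (Nat.card_eq_two_iff' (1 : π.ker)).1 hk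
    have h1 := hy ⟨z, hz'⟩ fun e' => e (congrArg Subtype.val e')
    have h2 := hy ⟨_, (inferInstance : π.ker.Normal).conj_mem z hz' (cs.simple i)⟩
      fun e' => e (conj_eq_one_iff.1 (congrArg Subtype.val e'))
    exact (mul_inv_eq_iff_eq_mul.1 (congrArg Subtype.val (h2.trans h1.symm))).symm
  let φ := π.liftOfSurjective hs ⟨ψ, hk2⟩
  have hφ : ∀ w, φ (π w) = ψ w := fun w => π.liftOfRightInverse_comp_apply _ _ _ w
  have hi : Function.Injective φ := by
    rw [← MonoidHom.ker_eq_bot_iff]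
    refine (hS.eq_bot_or_eq_top_of_normal _ inferInstance).resolve_right fun e => h0 ?_
    rw [← hψ, ← hφ, ← MonoidHom.mem_ker, e]
    trivial
  have hr2 : φ.range = Subgroup.closure (Set.range s) := by
    rw [← hr]
    refine le_antisymm ?_ ?_
    · rintro _ ⟨x, rfl⟩
      obtain ⟨w, rfl⟩ := hs x
      exact ⟨w, (hφ w).symm⟩
    · rintro _ ⟨w, rfl⟩
      exact ⟨π w, hφ w⟩
  let e := (MonoidHom.ofInjective hi).trans (MulEquiv.subgroupCongr hr2)
  have h2 : Subgroup.center (symplecticGroup (Fin 3) (ZMod 2)) = ⊥ :=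
    Subgroup.card_eq_one.1 (Cfsg.Agent.S0246.result (q := 2) (ZMod.card 2) 3 (by norm_num))
  exact ⟨e.symm.isSimpleGroup, (Nat.card_congr e.toEquiv).symm.trans cS,
    ⟨e.symm.trans ((QuotientGroup.quotientMulEquivOfEq h2).trans QuotientGroup.quotientBot).symm⟩⟩

end CL.YK
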