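import Mathlib
import Cfsg.Agent.SPOR.PChain

/-! The centraliser `W(D₆)` of a fixed-point-free involution in `A₁₂`, coded by numbers. -/

set_option autoImplicit false
set_option maxRecDepth 100000

namespace CL.YK
open Equiv CL.K

def alP : Perm (Fin 12) :=
  swap 0 1 * swap 2 3 * swap 4 5 * swap 6 7 * swap 8 9 * swap 10 11

theorem alP_val : ∀ x : Fin 12, (alP x).val = x.val ^^^ 1 := by decide +kernel

theorem alP_sq : alP * alP = 1 := by decide +kernel

abbrev HH : Subgroup (Perm (Fin 12)) := alternatingGroup (Fin 12) ⊓ Subgroup.centralizer {alP}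

theorem mem_HH {g : Perm (Fin 12)} : g ∈ HH ↔ Perm.sign g = 1 ∧ g * alP = alP * g := by
  rw [Subgroup.mem_inf, Perm.mem_alternatingGroup, Subgroup.mem_centralizer_singleton_iff]

theorem app_alP (h : HH) (x : Fin 12) : h.1 (alP x) = alP (h.1 x) := by
  rw [← Perm.mul_apply, (mem_HH.1 h.2).2, Perm.mul_apply]

def al : HH := ⟨alP, mem_HH.2 ⟨by simp [alP], rfl⟩⟩

/-- the reflection exchanging the points `p` and `q` -/
def rq (p q : Fin 12) : Perm (Fin 12) := swap p q * swap (alP p) (alP q)

theorem rq_comm : ∀ p q, rq p q * alP = alP * rq p q := by decide +kernel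

def rf (p q : Fin 12) : HH := ⟨rq p q, mem_HH.2 ⟨by
  by_cases h : p = q
  · simp [rq, h]
  · simp [rq, Perm.sign_swap h, Perm.sign_swap (alP.injective.ne h)], rq_comm p q⟩⟩

noncomputable def dg (c i : ℕ) : ℕ := Nat.land (Nat.shiftRight c (Nat.mul 4 i)) 15

noncomputable def ap (c x : ℕ) : ℕ := Nat.xor (dg c (Nat.shiftRight x 1)) (Nat.land x 1)

noncomputable def pk (a b c d e f : ℕ) : ℕ :=
  Nat.add a (Nat.mul 16 (Nat.add b (Nat.mul 16 (Nat.add c (Nat.mul 16 (Nat.add d (Nat.mul 16
    (Nat.add e (Nat.mul 16 f)))))))))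

noncomputable def mu (g h : ℕ) : ℕ := force g fun g => force h fun h =>
  pk (ap g (dg h 0)) (ap g (dg h 1)) (ap g (dg h 2)) (ap g (dg h 3)) (ap g (dg h 4)) (ap g (dg h 5))

noncomputable def code (h : HH) : ℕ := pk (h.1 0) (h.1 2) (h.1 4) (h.1 6) (h.1 8) (h.1 10)

theorem dg_eq (c i : ℕ) : dg c i = c / 16 ^ i % 16 := by
  show (c >>> (4 * i)) &&& (2 ^ 4 - 1) = _
  rw [Nat.and_two_pow_sub_one_eq_mod, Nat.shiftRight_eq_div_pow, pow_mul]
  rfl

theorem pk_eq (a b c d e f : ℕ) :
    pk a b c d e f = a + 16 * (b + 16 * (c + 16 * (d + 16 * (e + 16 * f)))) := rfl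

theorem dg_code (h : HH) (i : Fin 6) : dg (code h) i = h.1 ⟨2 * i, by omega⟩ := by
  have h0 := (h.1 0).2
  have h1 := (h.1 2).2
  have h2 := (h.1 4).2
  have h3 := (h.1 6).2
  have h4 := (h.1 8).2
  have h5 := (h.1 10).2
  rw [dg_eq, code, pk_eq]
  fin_cases i
  · show _ = (h.1 0).val; simp only; omega
  · show _ = (h.1 2).val; simp only; omega
  · show _ = (h.1 4).val; simp only; omega
  · show _ = (h.1 6).val; simp only; omega
  · show _ = (h.1 8).val; simp only; omega
  · show _ = (h.1 10).val; simp only; omega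

theorem alP_half : ∀ x : Fin 12, x.val % 2 = 1 →
    (alP ⟨2 * (x.val / 2), by omega⟩).val = x.val := by decide +kernel

theorem pk_congr {a b c d e f a' b' c' d' e' f' : ℕ} (h0 : a = a') (h1 : b = b') (h2 : c = c')
    (h3 : d = d') (h4 : e = e') (h5 : f = f') : pk a b c d e f = pk a' b' c' d' e' f' := by
  rw [h0, h1, h2, h3, h4, h5]

theorem ap_code (h : HH) (x : Fin 12) : ap (code h) x = h.1 x := by
  have e : ap (code h) x = dg (code h) (⟨x / 2, by omega⟩ : Fin 6) ^^^ (x.val % 2) := by
    show dg _ (x.val >>> 1) ^^^ (x.val &&& 1) = _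
    rw [Nat.and_one_is_mod, Nat.shiftRight_eq_div_pow]
  rw [e, dg_code]
  rcases Nat.mod_two_eq_zero_or_one x with h2 | h2
  · rw [h2, Nat.xor_zero]
    exact congrArg (fun y => (h.1 y).val) (Fin.ext (by simp only; omega))
  · rw [h2, ← alP_val, ← app_alP]
    exact congrArg (fun y => (h.1 y).val) (Fin.ext (alP_half x h2))

theorem code_mul (g h : HH) : code (g * h) = mu (code g) (code h) := by
  rw [mu, force_eq, force_eq]
  have e : ∀ i : Fin 6, ap (code g) (dg (code h) i) = (g * h).1 ⟨2 * i, by omega⟩ := fun i => by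
    rw [dg_code, ap_code]; rfl
  exact pk_congr (e 0).symm (e 1).symm (e 2).symm (e 3).symm (e 4).symm (e 5).symm

theorem code_iff (g h : HH) : g = h ↔ code g = code h :=
  ⟨fun e => e ▸ rfl, fun e => Subtype.ext (Equiv.ext fun x => Fin.ext (by
    rw [← ap_code, ← ap_code, e]))⟩

theorem code_one : code 1 = 11035680 := by decide +kernel

theorem code_al : code al = 12154161 := by decide +kernel

noncomputable def iv1 (c k : ℕ) : ℕ := sumLt (fun x => Nat.mul x (ind (ap c x) k)) 12

noncomputable def iv (c : ℕ) : ℕ := force c fun c =>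
  pk (iv1 c 0) (iv1 c 2) (iv1 c 4) (iv1 c 6) (iv1 c 8) (iv1 c 10)

theorem iv1_code (h : HH) (k : Fin 12) : iv1 (code h) k = (h⁻¹).1 k := by
  rw [iv1, sumLt_eq, Finset.sum_eq_single ((h⁻¹).1 k).val]
  · rw [ap_code, ind_eq, if_pos (by simp)]; exact Nat.mul_one _
  · intro b hb hne
    rw [show b = (⟨b, Finset.mem_range.1 hb⟩ : Fin 12).val from rfl, ap_code, ind_eq, if_neg]
    · rfl
    · intro e
      apply hne
      rw [← Fin.ext e]
      simp
  · intro hn
    exact absurd (Finset.mem_range.2 (Fin.is_lt _)) hn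

theorem code_inv (h : HH) : code h⁻¹ = iv (code h) := by
  rw [iv, force_eq]
  exact pk_congr (iv1_code h 0).symm (iv1_code h 2).symm (iv1_code h 4).symm (iv1_code h 6).symm
    (iv1_code h 8).symm (iv1_code h 10).symm

noncomputable def RC : ℕ := nat_lit 0xa86420a864208a64209b642068a42078b420486a20586b202864a03864b008642a18642ba86420a864209b64208a642078b42068a420586b20486a203864b02864a018642b08642a8a64209b6420a86420a86420a68420a79420a46820a56920a26480a36490a06428a164299b64208a6420a86420a86420a79420a68420a56920a46820a36490a26480a16429a0642868a42078b420a68420a79420a86420a86420a84620a85720a82460a83470a80426a8142778b42068a420a79420a68420a86420a86420a85720a84620a83470a82460a81427a80426486a20586b20a46820a56920a84620a85720a86420a86420a86240a86350a86024a86125586b20486a20a56920a46820a85720a84620a86420a86420a86350a86240a86125a860242864a03864b0a26480a36490a82460a83470a86240a86350a86420a86420a86402a864133864b02864a0a36490a26480a83470a82460a86350a86240a86420a86420a86413a8640208642a18642ba06428a16429a80426a81427a86024a86125a86402a86413a86420a8642018642b08642aa16429a06428a81427a80426a86125a86024a86413a86402a86420a86420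

noncomputable def rc (p q : ℕ) : ℕ := fld 24 16777215 RC (Nat.add (Nat.mul 12 p) q)

theorem code_rf : ∀ p q : Fin 12, code (rf p q) = rc p q := by decide +kernel

/-- commuting codes -/
noncomputable def cm (c t : ℕ) : Bool := force c fun c => force t fun t =>
  allLt (fun i => Nat.beq (ap c (dg t i)) (ap t (dg c i))) 6

theorem cm_code (g h : HH) : cm (code g) (code h) = true ↔ Commute g h := by
  rw [cm, force_eq, force_eq, allLt_iff]
  have e : ∀ (g h : HH) (i : Fin 6), ap (code g) (dg (code h) i) = (g * h).1 ⟨2 * i, by omega⟩ :=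
    fun g h i => by rw [dg_code, ap_code]; rfl
  constructor
  · intro hc
    have e2 : ∀ i : Fin 6, dg (code (g * h)) i = dg (code (h * g)) i := fun i => by
      rw [dg_code, dg_code, ← e, ← e]; exact Nat.eq_of_beq_eq_true (hc i i.2)
    refine (code_iff _ _).2 ?_
    simp only [dg_code] at e2
    exact pk_congr (e2 0) (e2 1) (e2 2) (e2 3) (e2 4) (e2 5)
  · intro hc i hi
    rw [Nat.beq_eq, show i = (⟨i, hi⟩ : Fin 6).val from rfl, e, e, hc.eq]

/-- the transversals of the stabiliser chain -/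
def tv (i p : ℕ) : HH :=
  if p = 2 * i + 1 then rf (Fin.ofNat 12 (2 * i)) 10 * rf (Fin.ofNat 12 (2 * i)) 11
  else rf (Fin.ofNat 12 (2 * i)) (Fin.ofNat 12 p)

noncomputable def TC : ℕ := nat_lit 0x9b64208a6420b96420a86420a79420a68420a56920a46820a36490a26480a16429a0642878b42068a420a79420a68420b87420a86420a85720a84620a83470a82460a81427a80426586b20486a20a56920a46820a85720a84620b86520a86420a86350a86240a86125a860243864b02864a0a36490a26480a83470a82460a86350a86240b86430a86420a86413a8640218642b08642aa16429a06428a81427a80426a86125a86024a86413a86402b86421a86420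

noncomputable def tc (i p : ℕ) : ℕ := fld 24 16777215 TC (Nat.add (Nat.mul 12 i) p)

theorem code_tv : ∀ i < 5, ∀ p < 12, code (tv i p) = tc i p := by decide +kernel

theorem tv_spec : ∀ i : ℕ, i < 5 → ∀ p : Fin 12, 2 * i ≤ p.val → (tv i p).1 * (tv i p).1 = 1 ∧
    ((tv i p).1 p).val = 2 * i ∧ ∀ x : Fin 12, x.val < 2 * i → (tv i p).1 x = x := by
  decide +kernel

/-- `h` fixes the first `i` pairs pointwise -/
def Fx (i : ℕ) (h : HH) : Prop := ∀ x : Fin 12, x.val < 2 * i → h.1 x = x

theorem Fx.step {i : ℕ} (hi : i < 5) {h : HH} (hf : Fx i h) :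
    ∃ p, 2 * i ≤ p ∧ p < 12 ∧ ∃ h', Fx (i + 1) h' ∧ h = tv i p * h' := by
  set p := h.1 ⟨2 * i, by omega⟩ with hp
  have h1 : 2 * i ≤ p.val := by
    by_contra hn
    have := h.1.injective ((hf p (by omega)).trans hp)
    exact hn (this ▸ le_rfl)
  obtain ⟨t1, t2, t3⟩ := tv_spec i hi p h1
  have h2 : (tv i p * h).1 ⟨2 * i, by omega⟩ = ⟨2 * i, by omega⟩ := Fin.ext t2
  refine ⟨p, h1, p.2, tv i p * h, fun x hx => ?_, ?_⟩
  · by_cases h3 : x.val < 2 * i
    · show (tv i p).1 (h.1 x) = x
      rw [hf x h3, t3 x h3]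
    by_cases h4 : x.val = 2 * i
    · rw [show x = ⟨2 * i, by omega⟩ from Fin.ext h4, h2]
    · have h5 : x = alP ⟨2 * i, by omega⟩ := Fin.ext (by
        rw [alP_val, show x.val = 2 * i + 1 by omega]
        exact (by decide : ∀ i < 5, 2 * i + 1 = (2 * i) ^^^ 1) i hi)
      rw [h5, app_alP, h2]
  · rw [← mul_assoc, show tv i p * tv i p = 1 from Subtype.ext t1, one_mul]

theorem Fx.last {h : HH} (hf : Fx 5 h) : h = 1 := by
  have h1 : 10 ≤ (h.1 10).val := by
    by_contra hn
    have := h.1.injective (hf (h.1 10) (by omega))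
    rw [this] at hn
    exact hn le_rfl
  have h2 : h.1 11 = alP (h.1 10) := app_alP h 10
  have h3 : h.1 10 = 10 ∨ h.1 10 = 11 := by
    have := (h.1 10).2
    simp only [Fin.ext_iff]
    show _ = 10 ∨ _ = 11
    omega
  have h4 : ∀ g : Perm (Fin 12), (∀ x : Fin 12, x.val < 10 → g x = x) → h.1 10 = g 10 →
      h.1 11 = g 11 → h.1 = g := fun g e1 e2 e3 => Equiv.ext fun x => by
    by_cases hx : x.val < 10
    · rw [hf x hx, e1 x hx]
    · rcases (by revert hx; revert x; decide : x = 10 ∨ x = 11) with rfl | rfl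
      exacts [e2, e3]
  rcases h3 with h3 | h3
  · exact Subtype.ext (h4 1 (fun _ _ => rfl) h3 (by rw [h2, h3]; rfl))
  · have h5 := (mem_HH.1 h.2).1
    rw [h4 (swap 10 11) (by decide) h3 (by rw [h2, h3]; rfl), Perm.sign_swap (by decide)] at h5
    exact absurd h5 (by decide)

theorem Fx.mem {K : Subgroup HH} {i : ℕ} (hi : i ≤ 5)
    (hK : ∀ p q : Fin 12, 2 * i ≤ p.val → 2 * i ≤ q.val → rf p q ∈ K) {h : HH} (hf : Fx i h) :
    h ∈ K := by
  induction hi using Nat.decreasingInduction generalizing h with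
  | self => exact hf.last ▸ K.one_mem
  | of_succ i hi ih =>
    obtain ⟨p, h1, h2, h', h3, rfl⟩ := hf.step hi
    refine K.mul_mem ?_ (ih (fun p q a b => hK p q (by omega) (by omega)) h3)
    have e1 : 2 * i ≤ (Fin.ofNat 12 (2 * i)).val := by simp only [Fin.val_ofNat]; omega
    unfold tv
    split_ifs
    · exact K.mul_mem (hK _ _ e1 (by show _ ≤ 10; omega)) (hK _ _ e1 (by show _ ≤ 11; omega))
    · exact hK _ _ e1 (by simp only [Fin.val_ofNat]; omega)

theorem eq_top_of_rf {K : Subgroup HH} (hK : ∀ p q, rf p q ∈ K) (h : HH) : h ∈ K :=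
  Fx.mem (i := 0) (by omega) (fun p q _ _ => hK p q) fun _ hx => absurd hx (by omega)

/-- a loop over the elements `g h`, `h` fixing the first pairs -/
noncomputable def allF (P : ℕ → Bool) (n : ℕ) : ℕ → Bool :=
  Nat.rec (motive := fun _ => ℕ → Bool) P (fun m ih g =>
    allLt (fun k => force (mu g (tc (Nat.sub 4 m) (Nat.sub 11 k))) ih) (Nat.add 4 (Nat.mul 2 m))) n

theorem allF_spec {P : ℕ → Bool} {n : ℕ} (hn : n ≤ 5) {g : HH} (hP : allF P n (code g) = true)
    {h : HH} (hf : Fx (5 - n) h) : P (code (g * h)) = true := by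
  induction n generalizing g h with
  | zero => rw [hf.last, mul_one]; exact hP
  | succ m ih =>
    obtain ⟨p, h1, h2, h', h3, rfl⟩ := hf.step (by omega)
    have h4 := allLt_iff.1 hP (11 - p) (by show _ < 4 + 2 * m; omega)
    rw [force_eq, show Nat.sub 4 m = 5 - (m + 1) by show 4 - m = _; omega,
      show Nat.sub 11 (11 - p) = p by show 11 - (11 - p) = _; omega,
      ← code_tv _ (by omega) _ h2, ← code_mul] at h4
    rw [← mul_assoc]
    exact ih (by omega) h4 (by rwa [show 5 - m = 5 - (m + 1) + 1 by omega])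

theorem all_of {P : ℕ → Bool} (hP : allF P 5 11035680 = true) (h : HH) : P (code h) = true := by
  rw [← one_mul h]
  exact allF_spec le_rfl (code_one ▸ hP) fun _ hx => absurd hx (by omega)

/-- the element with a given code -/
noncomputable def elF (n : ℕ) : ℕ → HH :=
  Nat.rec (motive := fun _ => ℕ → HH) (fun _ => 1) (fun m ih c =>
    tv (4 - m % 5) (dg c (4 - m % 5) % 12) * ih (mu (tc (4 - m % 5) (dg c (4 - m % 5) % 12)) c)) n

noncomputable def evF (n : ℕ) : ℕ → ℕ :=
  Nat.rec (motive := fun _ => ℕ → ℕ) (fun _ => 11035680) (fun m ih c => force c fun c =>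
    force (tc (4 - m % 5) (dg c (4 - m % 5) % 12)) fun t => mu t (ih (mu t c))) n

theorem code_elF (n c : ℕ) : code (elF n c) = evF n c := by
  induction n generalizing c with
  | zero => exact code_one
  | succ m ih =>
    have e : evF (m + 1) c = force c fun c => force (tc (4 - m % 5) (dg c (4 - m % 5) % 12))
      fun t => mu t (evF m (mu t c)) := rfl
    rw [e, force_eq, force_eq]
    refine (code_mul _ _).trans ?_
    rw [code_tv _ (by omega) _ (Nat.mod_lt _ (by omega))]
    exact congrArg _ (ih _)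

noncomputable def el (c : ℕ) : HH := elF 5 c

noncomputable def evc (c : ℕ) : ℕ := evF 5 c

theorem code_el (c : ℕ) : code (el c) = evc c := code_elF 5 c

end CL.YK
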